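import Cfsg.Agent.H845.Bs.Block
import Cfsg.Agent.H358.Bs.Amb

/-!
# S5733, BS34: counting

`D`, `W` complementary, `dim D > dim W`: the elements of `SL(V)` which are conjugate to an element leaving `D` and `W`
invariant and irreducible on `D` have at least the proportion of the irreducible elements of `GL(D)`.
-/

set_option autoImplicit false

namespace Cfsg.Agent.H845.Bs

open Cfsg.Agent.H847.Bs Module

section

variable {F V : Type*} [Field F] [AddCommGroup V] [Module F V] [FiniteDimensional F V]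

/-- the restriction to an invariant subspace -/
noncomputable def res (g : V ≃ₗ[F] V) {D : Submodule F V} (h : Inv g D) : D ≃ₗ[F] D :=
  { toFun := fun v => ⟨g v, h v v.2⟩
    map_add' := fun v w => Subtype.ext (map_add g _ _)
    map_smul' := fun a v => Subtype.ext (map_smul g _ _)
    invFun := fun v => ⟨g.symm v, Inv.symm_mem h v.2⟩
    left_inv := fun v => Subtype.ext (g.symm_apply_apply _)
    right_inv := fun v => Subtype.ext (g.apply_symm_apply _) }

theorem coe_res (g : V ≃ₗ[F] V) {D : Submodule F V} (h : Inv g D) (v : D) : ((res g h v : D) : V) = g v := rfl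

theorem irr_res {g : V ≃ₗ[F] V} {D : Submodule F V} (h : Inv g D) : Irr (res g h) ⊤ ↔ Irr g D := by
  constructor
  · intro hi
    refine ⟨h, ?_, ?_⟩
    · intro hD
      apply hi.ne_bot
      rw [Submodule.eq_bot_iff]
      rintro ⟨v, hv⟩ _
      rw [hD] at hv
      exact Subtype.ext ((Submodule.mem_bot F).1 hv)
    · intro Y hY hYi
      rcases hi.min (Y.comap D.subtype) le_top (fun v hv => hYi v hv) with h1 | h1
      · left
        rw [Submodule.eq_bot_iff]
        intro v hv
        have h2 : (⟨v, hY hv⟩ : D) ∈ Y.comap D.subtype := hv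
        rw [h1] at h2
        exact congrArg Subtype.val ((Submodule.mem_bot F).1 h2)
      · right
        apply le_antisymm hY
        intro v hv
        have h2 : (⟨v, hv⟩ : D) ∈ Y.comap D.subtype := by rw [h1]; exact Submodule.mem_top
        exact h2
  · intro hi
    refine ⟨fun v _ => Submodule.mem_top, ?_, ?_⟩
    · intro ht
      apply hi.ne_bot
      rw [Submodule.eq_bot_iff]
      intro v hv
      have h2 : (⟨v, hv⟩ : D) ∈ (⊤ : Submodule F D) := Submodule.mem_top
      rw [ht] at h2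
      exact congrArg Subtype.val ((Submodule.mem_bot F).1 h2)
    · intro Y _ hYi
      have hle : Y.map D.subtype ≤ D := by
        rintro _ ⟨v, _, rfl⟩
        exact v.2
      have hinv : Inv g (Y.map D.subtype) := by
        rintro _ ⟨v, hv, rfl⟩
        exact ⟨res g h v, hYi v hv, rfl⟩
      rcases hi.min _ hle hinv with h1 | h1
      · left
        rw [Submodule.eq_bot_iff]
        intro v hv
        have h2 : (v : V) ∈ Y.map D.subtype := ⟨v, hv, rfl⟩
        rw [h1] at h2
        exact Subtype.ext ((Submodule.mem_bot F).1 h2)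
      · right
        rw [eq_top_iff]
        intro v _
        have h2 : (v : V) ∈ Y.map D.subtype := by rw [h1]; exact v.2
        obtain ⟨w, hw, hwv⟩ := h2
        have h3 : w = v := Subtype.ext hwv
        rwa [← h3]

/-- the stabiliser of `D` and `W` in `SL(V)` -/
def stb (D W : Submodule F V) : Subgroup (V ≃ₗ[F] V) where
  carrier := {g | g ∈ slV F V ∧ Inv g D ∧ Inv g W}
  mul_mem' := by
    rintro a b ⟨ha, ha1, ha2⟩ ⟨hb, hb1, hb2⟩
    exact ⟨(slV F V).mul_mem ha hb, fun v hv => ha1 _ (hb1 v hv), fun v hv => ha2 _ (hb2 v hv)⟩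
  one_mem' := ⟨(slV F V).one_mem, fun v hv => hv, fun v hv => hv⟩
  inv_mem' := by
    rintro a ⟨ha, ha1, ha2⟩
    exact ⟨(slV F V).inv_mem ha, fun v hv => Inv.symm_mem ha1 hv, fun v hv => Inv.symm_mem ha2 hv⟩

/-- the restriction to `D` -/
noncomputable def rho (D W : Submodule F V) : stb D W →* (D ≃ₗ[F] D) where
  toFun g := res g.1 g.2.2.1
  map_one' := LinearEquiv.ext fun v => Subtype.ext rfl
  map_mul' a b := LinearEquiv.ext fun v => Subtype.ext rfl

/-- linear automorphisms of given determinant -/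
theorem exists_det {W : Type*} [AddCommGroup W] [Module F W] [FiniteDimensional F W] (h : 0 < finrank F W) {c : F}
    (hc : c ≠ 0) : ∃ e : W ≃ₗ[F] W, LinearMap.det (e : W →ₗ[F] W) = c := by
  let b := finBasis F W
  let M : End F W := Matrix.toLin b b (Matrix.diagonal (Function.update 1 ⟨0, h⟩ c))
  have hM : LinearMap.det M = c := by
    rw [LinearMap.det_toLin, Matrix.det_diagonal, Finset.prod_update_of_mem (Finset.mem_univ _)]
    simp
  exact ⟨LinearMap.equivOfDetNeZero M (by rwa [hM]), hM⟩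

theorem glue_left {D W : Submodule F V} (h : IsCompl D W) (x : D ≃ₗ[F] D) (y : W ≃ₗ[F] W) (v : D) :
    glue h x y v = x v := by
  unfold glue
  rw [LinearEquiv.trans_apply, LinearEquiv.trans_apply]
  have h1 : (Submodule.prodEquivOfIsCompl D W h).symm (v : V) = (v, 0) := by
    rw [LinearEquiv.symm_apply_eq]
    simp
  rw [h1]
  simp

theorem glue_right {D W : Submodule F V} (h : IsCompl D W) (x : D ≃ₗ[F] D) (y : W ≃ₗ[F] W) (w : W) :
    glue h x y w = y w := by
  unfold glue
  rw [LinearEquiv.trans_apply, LinearEquiv.trans_apply]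
  have h1 : (Submodule.prodEquivOfIsCompl D W h).symm (w : V) = (0, w) := by
    rw [LinearEquiv.symm_apply_eq]
    simp
  rw [h1]
  simp

theorem det_glue {D W : Submodule F V} (h : IsCompl D W) (x : D ≃ₗ[F] D) (y : W ≃ₗ[F] W) :
    LinearMap.det (glue h x y : V →ₗ[F] V) = LinearMap.det (x : D →ₗ[F] D) * LinearMap.det (y : W →ₗ[F] W) := by
  have h1 : (glue h x y : V →ₗ[F] V) = (Submodule.prodEquivOfIsCompl D W h : (D × W) →ₗ[F] V) ∘ₗ
      ((x : D →ₗ[F] D).prodMap (y : W →ₗ[F] W)) ∘ₗ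
      ((Submodule.prodEquivOfIsCompl D W h).symm : V →ₗ[F] D × W) := rfl
  rw [h1, LinearMap.det_conj, LinearMap.det_prodMap]

theorem rho_surjective {D W : Submodule F V} (h : IsCompl D W) (hW : 0 < finrank F W) :
    Function.Surjective (rho D W) := by
  intro x
  have hx : LinearMap.det (x : D →ₗ[F] D) ≠ 0 := (LinearEquiv.isUnit_det' x).ne_zero
  obtain ⟨y, hy⟩ := exists_det (F := F) hW (inv_ne_zero hx)
  refine ⟨⟨glue h x y, ?_, fun v hv => ?_, fun w hw => ?_⟩, ?_⟩
  · change LinearMap.det _ = 1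
    rw [det_glue, hy, mul_inv_cancel₀ hx]
  · rw [glue_left h x y ⟨v, hv⟩]
    exact (x _).2
  · rw [glue_right h x y ⟨w, hw⟩]
    exact (y _).2
  · apply LinearEquiv.ext
    intro v
    apply Subtype.ext
    exact glue_left h x y v

end

/-- preimages under a surjective homomorphism -/
theorem card_preimage {M Q : Type*} [Group M] [Group Q] [Finite M] (f : M →* Q) (hf : Function.Surjective f)
    (S : Set Q) : Nat.card {m : M // f m ∈ S} = Nat.card f.ker * Nat.card S := by
  rw [← Nat.card_prod]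
  choose s hs using hf
  refine Nat.card_congr
    { toFun := fun m => (⟨(s (f m.1))⁻¹ * m.1, ?_⟩, ⟨f m.1, m.2⟩)
      invFun := fun p => ⟨s p.2.1 * p.1.1, ?_⟩
      left_inv := fun m => Subtype.ext (mul_inv_cancel_left _ _)
      right_inv := fun p => ?_ }
  · rw [MonoidHom.mem_ker, map_mul, map_inv, hs, inv_mul_cancel]
  · rw [map_mul, hs, MonoidHom.mem_ker.1 p.1.2, mul_one]
    exact p.2.2
  · have h1 : f (s p.2.1 * p.1.1) = p.2.1 := by
      rw [map_mul, hs, MonoidHom.mem_ker.1 p.1.2, mul_one]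
    apply Prod.ext
    · apply Subtype.ext
      change (s (f (s p.2.1 * p.1.1)))⁻¹ * (s p.2.1 * p.1.1) = p.1.1
      rw [h1, inv_mul_cancel_left]
    · exact Subtype.ext h1

section

variable {F V : Type*} [Field F] [AddCommGroup V] [Module F V] [FiniteDimensional F V]

/-- the elements of `SL(V)` leaving `D` and `W` invariant, irreducible on `D` -/
def EE (D W : Submodule F V) : Set (V ≃ₗ[F] V) := {g | g ∈ slV F V ∧ Irr g D ∧ Inv g W}

/-- the elements of `SL(V)` with an irreducible submodule of dimension `d` with an invariant complement -/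
def UU (F V : Type*) [Field F] [AddCommGroup V] [Module F V] (d : ℕ) : Set (V ≃ₗ[F] V) :=
  {g | g ∈ slV F V ∧ ∃ D W : Submodule F V, IsCompl D W ∧ finrank F D = d ∧ Irr g D ∧ Inv g W}

omit [FiniteDimensional F V] in
/-- images of invariant subspaces -/
theorem Inv.conj {x g : V ≃ₗ[F] V} {Y : Submodule F V} (h : Inv x Y) :
    Inv (g * x * g⁻¹) (Y.map (g : V →ₗ[F] V)) := by
  rintro _ ⟨v, hv, rfl⟩
  refine ⟨x v, h v hv, ?_⟩
  change g (x v) = g (x (g.symm (g v)))
  rw [g.symm_apply_apply]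

omit [FiniteDimensional F V] in
theorem Irr.conj {x g : V ≃ₗ[F] V} {Y : Submodule F V} (h : Irr x Y) :
    Irr (g * x * g⁻¹) (Y.map (g : V →ₗ[F] V)) := by
  have hsub : ∀ Z : Submodule F V, (Z.map (g⁻¹ : V ≃ₗ[F] V).toLinearMap).map (g : V →ₗ[F] V) = Z := by
    intro Z
    rw [← Submodule.map_comp]
    have : (g : V →ₗ[F] V) ∘ₗ ((g⁻¹ : V ≃ₗ[F] V) : V →ₗ[F] V) = LinearMap.id :=
      LinearMap.ext fun v => g.apply_symm_apply v
    rw [this, Submodule.map_id]
  refine ⟨Inv.conj h.inv, ?_, ?_⟩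
  · intro h0
    apply h.ne_bot
    rw [Submodule.eq_bot_iff]
    intro v hv
    have h1 : g v ∈ Y.map (g : V →ₗ[F] V) := ⟨v, hv, rfl⟩
    rw [h0, Submodule.mem_bot] at h1
    exact g.injective (by rw [h1, map_zero])
  · intro Z hZ hZi
    have h1 : Z.map (g⁻¹ : V ≃ₗ[F] V).toLinearMap ≤ Y := by
      rintro _ ⟨v, hv, rfl⟩
      obtain ⟨w, hw, rfl⟩ := hZ hv
      change g.symm (g w) ∈ Y
      rw [g.symm_apply_apply]
      exact hw
    have h2 : Inv x (Z.map (g⁻¹ : V ≃ₗ[F] V).toLinearMap) := by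
      rintro _ ⟨v, hv, rfl⟩
      refine ⟨g (x (g.symm v)), hZi v hv, ?_⟩
      change g.symm (g (x (g.symm v))) = x (g.symm v)
      rw [g.symm_apply_apply]
    rcases h.min _ h1 h2 with h3 | h3
    · left
      rw [← hsub Z, h3, Submodule.map_bot]
    · right
      rw [← hsub Z, h3]

/-- large irreducible submodules are unique -/
theorem irr_unique {z : V ≃ₗ[F] V} {D D' : Submodule F V} (hD : Irr z D) (hD' : Irr z D')
    (h : finrank F V < finrank F D + finrank F D') : D = D' := by
  have h1 : D ⊓ D' ≠ ⊥ := by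
    intro h0
    have h2 := Submodule.finrank_sup_add_finrank_inf_eq D D'
    rw [h0, finrank_bot, add_zero] at h2
    have h3 := Submodule.finrank_le (D ⊔ D')
    omega
  have hi : Inv z (D ⊓ D') := fun v hv => ⟨hD.inv v hv.1, hD'.inv v hv.2⟩
  rcases hD.min _ inf_le_left hi with h2 | h2
  · exact absurd h2 h1
  · rcases hD'.min _ inf_le_right hi with h3 | h3
    · exact absurd h3 h1
    · rw [← h2, h3]

/-- the invariant complement is unique -/
theorem compl_unique {z : V ≃ₗ[F] V} {D W W' : Submodule F V} (hD : Irr z D) (hW : Inv z W) (hW' : Inv z W')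
    (h : IsCompl D W) (h' : IsCompl D W') (hd : finrank F V < 2 * finrank F D) : W' = W := by
  have e1 := Submodule.finrank_add_eq_of_isCompl h
  have e2 := Submodule.finrank_add_eq_of_isCompl h'
  have hi : Inv z (D ⊓ (W ⊔ W')) := by
    rintro v ⟨hv, hv'⟩
    refine ⟨hD.inv v hv, ?_⟩
    obtain ⟨a, ha, b, hb, rfl⟩ := Submodule.mem_sup.1 hv'
    rw [map_add]
    exact Submodule.add_mem_sup (hW a ha) (hW' b hb)
  have e3 := Submodule.finrank_sup_add_finrank_inf_eq W W'
  rcases hD.min _ inf_le_left hi with h1 | h1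
  · have e4 := Submodule.finrank_sup_add_finrank_inf_eq D (W ⊔ W')
    rw [h1, finrank_bot, add_zero] at e4
    have e5 := Submodule.finrank_le (D ⊔ (W ⊔ W'))
    have e6 : W = W ⊔ W' := Submodule.eq_of_le_of_finrank_le le_sup_left (by omega)
    have e7 : W' ≤ W := by
      rw [e6]; exact le_sup_right
    exact Submodule.eq_of_le_of_finrank_eq e7 (by omega)
  · exfalso
    have h2 : D ≤ W ⊔ W' := by rw [← h1]; exact inf_le_right
    have h3 : W ⊔ W' = ⊤ := by
      rw [eq_top_iff, ← h.sup_eq_top]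
      exact sup_le h2 le_sup_left
    rw [h3, finrank_top] at e3
    omega

end

section

variable {F V : Type*} [Field F] [Finite F] [AddCommGroup V] [Module F V] [FiniteDimensional F V]

/-- the elements with a large irreducible submodule of dimension `d` -/
theorem card_UU {D W : Submodule F V} (h : IsCompl D W) (hd : finrank F V < 2 * finrank F D) (hW : 0 < finrank F W)
    {c : ℝ} (hc : c * (Nat.card (D ≃ₗ[F] D) : ℝ) ≤ Nat.card {x : D ≃ₗ[F] D // Irr x ⊤}) :
    c * (Nat.card (slV F V) : ℝ) ≤ Nat.card (UU F V (finrank F D)) := by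
  have hVfin : Finite V := Module.finite_of_finite F
  have hGfin : Finite (V ≃ₗ[F] V) := Finite.of_injective (fun u : V ≃ₗ[F] V => (u : V → V)) DFunLike.coe_injective
  -- the TI property
  have hTI : ∀ g ∈ slV F V, ∀ x ∈ EE D W, g * x * g⁻¹ ∈ EE D W → g ∈ stb D W := by
    rintro g hg x ⟨-, hx1, hx2⟩ ⟨-, hy1, hy2⟩
    have h1 : Irr (g * x * g⁻¹) (D.map (g : V →ₗ[F] V)) := Irr.conj hx1
    have h2 : Inv (g * x * g⁻¹) (W.map (g : V →ₗ[F] V)) := Inv.conj hx2
    have h3 : D.map (g : V →ₗ[F] V) = D := by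
      apply irr_unique h1 hy1
      rw [LinearEquiv.finrank_map_eq g D]
      omega
    have h4 : IsCompl D (W.map (g : V →ₗ[F] V)) := by
      have h5 : IsCompl (D.map (g : V →ₗ[F] V)) (W.map (g : V →ₗ[F] V)) := by
        have h6 := (Submodule.orderIsoMapComap g).isCompl_iff.1 h
        exact h6
      rwa [h3] at h5
    have h5 : W.map (g : V →ₗ[F] V) = W := compl_unique hy1 hy2 h2 h h4 hd
    refine ⟨hg, fun v hv => ?_, fun v hv => ?_⟩
    · rw [← h3]; exact ⟨v, hv, rfl⟩
    · rw [← h5]; exact ⟨v, hv, rfl⟩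
  have h1 := H358.Bs.card_union_in (G := slV F V) (M := stb D W) (E := EE D W) (fun g hg => hg.1) (fun g hg => hg.1) hTI
  -- the order of `EE`
  have h2 : Nat.card (EE D W) = Nat.card {m : stb D W // rho D W m ∈ {x : D ≃ₗ[F] D | Irr x ⊤}} :=
    Nat.card_congr
      { toFun := fun g => ⟨⟨g.1, g.2.1, g.2.2.1.inv, g.2.2.2⟩, (irr_res g.2.2.1.inv).2 g.2.2.1⟩
        invFun := fun m => ⟨m.1.1, m.1.2.1, (irr_res m.1.2.2.1).1 m.2, m.1.2.2.2⟩
        left_inv := fun _ => rfl
        right_inv := fun _ => rfl }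
  have h3 := card_preimage (rho D W) (rho_surjective h hW) {x : D ≃ₗ[F] D | Irr x ⊤}
  have h4 := card_preimage (rho D W) (rho_surjective h hW) Set.univ
  have h5 : Nat.card {m : stb D W // rho D W m ∈ (Set.univ : Set (D ≃ₗ[F] D))} = Nat.card (stb D W) :=
    Nat.card_congr (Equiv.subtypeUnivEquiv fun _ => Set.mem_univ _)
  rw [h5, Nat.card_congr (Equiv.Set.univ _)] at h4
  rw [h3] at h2
  -- the union
  have h6 : Nat.card {y : V ≃ₗ[F] V // ∃ g ∈ slV F V, ∃ x ∈ EE D W, y = g * x * g⁻¹} ≤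
      Nat.card (UU F V (finrank F D)) := by
    refine Nat.card_le_card_of_injective (fun y => (⟨y.1, ?_⟩ : UU F V (finrank F D)))
      (fun a b hab => Subtype.ext (congrArg (fun z : UU F V (finrank F D) => (z : V ≃ₗ[F] V)) hab))
    obtain ⟨g, hg, x, ⟨hx, hx1, hx2⟩, hy⟩ := y.2
    rw [hy]
    refine ⟨(slV F V).mul_mem ((slV F V).mul_mem hg hx) ((slV F V).inv_mem hg), D.map (g : V →ₗ[F] V),
      W.map (g : V →ₗ[F] V), ?_, LinearEquiv.finrank_map_eq g D, Irr.conj hx1, Inv.conj hx2⟩
    exact (Submodule.orderIsoMapComap g).isCompl_iff.1 h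
  have hk : 0 < Nat.card (rho D W).ker := Nat.card_pos
  have hQ : 0 < Nat.card (D ≃ₗ[F] D) := by
    have : Finite (D ≃ₗ[F] D) := Finite.of_surjective _ (rho_surjective h hW)
    exact Nat.card_pos
  rw [h2, h4] at h1
  have h7 : (Nat.card (slV F V) : ℝ) * (Nat.card (rho D W).ker * Nat.card {x : D ≃ₗ[F] D // Irr x ⊤}) ≤
      Nat.card (UU F V (finrank F D)) * (Nat.card (rho D W).ker * Nat.card (D ≃ₗ[F] D)) := by
    have h8 := h1.trans (Nat.mul_le_mul_right _ h6)
    exact_mod_cast h8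
  have hk' : (0 : ℝ) < Nat.card (rho D W).ker := by exact_mod_cast hk
  have hQ' : (0 : ℝ) < Nat.card (D ≃ₗ[F] D) := by exact_mod_cast hQ
  have h8 : (Nat.card (slV F V) : ℝ) * Nat.card {x : D ≃ₗ[F] D // Irr x ⊤} ≤
      Nat.card (UU F V (finrank F D)) * Nat.card (D ≃ₗ[F] D) := by
    have h9 : (Nat.card (rho D W).ker : ℝ) * ((Nat.card (slV F V) : ℝ) * Nat.card {x : D ≃ₗ[F] D // Irr x ⊤}) ≤
        (Nat.card (rho D W).ker : ℝ) * (Nat.card (UU F V (finrank F D)) * Nat.card (D ≃ₗ[F] D)) := by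
      linarith
    exact le_of_mul_le_mul_left h9 hk'
  have h9 : (Nat.card (slV F V) : ℝ) * (c * Nat.card (D ≃ₗ[F] D)) ≤
      Nat.card (UU F V (finrank F D)) * Nat.card (D ≃ₗ[F] D) :=
    (mul_le_mul_of_nonneg_left hc (Nat.cast_nonneg _)).trans h8
  have h10 : (c * (Nat.card (slV F V) : ℝ)) * Nat.card (D ≃ₗ[F] D) ≤
      Nat.card (UU F V (finrank F D)) * Nat.card (D ≃ₗ[F] D) := by linarith
  exact le_of_mul_le_mul_right h10 hQ'

end

end Cfsg.Agent.H845.Bs
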