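import Cfsg.Agent.H845.Bs.Geo
import Cfsg.Agent.BpCl.Rows

/-!
# S5733, BS34: blocks

* `block_contra` : an element of prime order `r` with `[V, y]` large and irreducible is in no imprimitive group
  with blocks of dimension at least 2;
* `sp_contra` : an element with a large irreducible submodule of odd dimension is in no group of symplectic
  similarities.
-/

set_option autoImplicit false

namespace Cfsg.Agent.H845.Bs

open Cfsg.Agent.H847.Bs Module

variable {F V : Type*} [Field F] [Finite F] [AddCommGroup V] [Module F V] [FiniteDimensional F V]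

theorem block_contra {H : Subgroup (V ≃ₗ[F] V)} {D : Submodule F V} (hB : BlkL H D) (hD : 2 ≤ finrank F D)
    {y : V ≃ₗ[F] V} (hy : y ∈ H) {r : ℕ} (hr : r.Prime) (hyr : y ^ r = 1) {X : Submodule F V} (hX : Irr y X)
    (hXy : ∀ v, y v - v ∈ X) (hXy1 : y ≠ 1) (hn : finrank F V < 2 * finrank F X) (hrX : finrank F X < r) :
    False := by
  classical
  have hVfin : Finite V := Module.finite_of_finite F
  have hSfin : Finite (Submodule F V) := Finite.of_injective (fun Y : Submodule F V => (Y : Set V)) SetLike.coe_injective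
  set B : Set (Submodule F V) := {Y : Submodule F V | ∃ h ∈ H, Y = D.map (h : V →ₗ[F] V)} with hBdef
  have hBfin : Finite B := inferInstance
  have := Fintype.ofFinite B
  have hdim : ∀ Y : B, finrank F (Y : Submodule F V) = finrank F D := by
    rintro ⟨_, h, _, rfl⟩
    exact LinearEquiv.finrank_map_eq h D
  have hDB : D ∈ B := ⟨1, H.one_mem, (Submodule.map_id D).symm⟩
  -- the number of blocks
  have hind : iSupIndep (fun Y : B => (Y : Submodule F V)) := (sSupIndep_iff B).1 hB.indep
  have hsup : ⨆ Y : B, (Y : Submodule F V) = ⊤ := by rw [← sSup_eq_iSup']; exact hB.span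
  have hint := DirectSum.isInternal_submodule_of_iSupIndep_of_iSup_eq_top hind hsup
  have hsum : finrank F V = ∑ Y : B, finrank F (Y : Submodule F V) := by
    rw [← LinearEquiv.finrank_eq (LinearEquiv.ofBijective (DirectSum.coeLinearMap _) hint), Module.finrank_directSum]
  have hcard : finrank F V = Fintype.card B * finrank F D := by
    rw [hsum, Finset.sum_congr rfl (fun Y _ => hdim Y), Finset.sum_const, Finset.card_univ, smul_eq_mul]
  have h2 : 2 ≤ Fintype.card B := by
    by_contra hlt
    have h3 : Fintype.card B = 0 ∨ Fintype.card B = 1 := by omega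
    rcases h3 with h3 | h3
    · have := Fintype.card_eq_zero_iff.1 h3
      exact this.elim ⟨D, hDB⟩
    · apply hB.ne_top
      apply Submodule.eq_top_of_finrank_eq
      rw [hcard, h3, one_mul]
  have hBr : Fintype.card B < r := by
    have h3 : Fintype.card B * 2 ≤ finrank F V := by
      rw [hcard]; exact Nat.mul_le_mul_left _ hD
    omega
  have hDn : 2 * finrank F D ≤ finrank F V := by
    rw [hcard]; exact Nat.mul_le_mul_right _ h2
  -- `y` fixes all blocks
  have hmap : ∀ Y ∈ B, Y.map (y : V →ₗ[F] V) ∈ B := by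
    rintro _ ⟨h, hh, rfl⟩
    refine ⟨y * h, H.mul_mem hy hh, ?_⟩
    rw [← Submodule.map_comp]
    rfl
  let f : Function.End B := fun Y => ⟨_, hmap Y Y.2⟩
  have hf : ∀ (m : ℕ) (Y : B), (((f ^ m) Y : B) : Submodule F V) =
      (Y : Submodule F V).map ((y ^ m : V ≃ₗ[F] V) : V →ₗ[F] V) := by
    intro m
    induction m with
    | zero =>
      intro Y
      exact (Submodule.map_id _).symm
    | succ m ih =>
      intro Y
      rw [pow_succ]
      refine (ih (f Y)).trans ?_
      change ((Y : Submodule F V).map (y : V →ₗ[F] V)).map _ = _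
      rw [← Submodule.map_comp, pow_succ]
      rfl
  have hfr : f ^ r ^ 1 = 1 := by
    funext Y
    apply Subtype.ext
    rw [pow_one, hf, hyr]
    exact Submodule.map_id _
  have : Fact r.Prime := ⟨hr⟩
  have h3 := Equiv.Perm.card_fixedPoints_modEq (f := f) (p := r) (n := 1) hfr
  have h4 : Fintype.card (Function.fixedPoints f) ≤ Fintype.card B := Fintype.card_subtype_le _
  have h5 : Fintype.card B = Fintype.card (Function.fixedPoints f) :=
    Nat.ModEq.eq_of_lt_of_lt h3 hBr (lt_of_le_of_lt h4 hBr)
  have h6 : ∀ Y : B, f Y = Y := by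
    have h7 : Function.Surjective (Subtype.val : Function.fixedPoints f → B) :=
      ((Fintype.bijective_iff_injective_and_card _).2 ⟨Subtype.val_injective, h5.symm⟩).2
    intro Y
    obtain ⟨Z, rfl⟩ := h7 Y
    exact Z.2
  have hinv : ∀ Y ∈ B, Inv y Y := by
    intro Y hY v hv
    have h7 : Y.map (y : V →ₗ[F] V) = Y := congrArg Subtype.val (h6 ⟨Y, hY⟩)
    rw [← h7]
    exact ⟨v, hv, rfl⟩
  -- some block is not fixed pointwise
  obtain ⟨Y, hY, v, hv, hyv⟩ : ∃ Y ∈ B, ∃ v ∈ Y, y v ≠ v := by
    by_contra hcon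
    push Not at hcon
    apply hXy1
    have h7 : (⊤ : Submodule F V) ≤ LinearMap.ker ((y : V →ₗ[F] V) - LinearMap.id) := by
      rw [← hB.span]
      apply sSup_le
      intro Y hY v hv
      rw [LinearMap.mem_ker]
      change y v - v = 0
      rw [hcon Y hY v hv, sub_self]
    apply LinearEquiv.ext
    intro v
    have h8 := h7 (Submodule.mem_top (x := v))
    rw [LinearMap.mem_ker] at h8
    exact sub_eq_zero.1 h8
  have h7 : X ⊓ Y = X := by
    rcases hX.min (X ⊓ Y) inf_le_left (fun w hw => ⟨hX.inv w hw.1, hinv Y hY w hw.2⟩) with h8 | h8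
    · exfalso
      have h9 : y v - v ∈ X ⊓ Y := ⟨hXy v, Y.sub_mem (hinv Y hY v hv) hv⟩
      rw [h8] at h9
      exact hyv (sub_eq_zero.1 ((Submodule.mem_bot F).1 h9))
    · exact h8
  have h8 : finrank F X ≤ finrank F Y := by
    rw [← h7]
    exact Submodule.finrank_mono inf_le_right
  rw [hdim ⟨Y, hY⟩] at h8
  omega

/-- the bilinear form of a symplectic `Frm` -/
noncomputable def bil {Φ : Frm F V} (hΦ : IsSp Φ) : LinearMap.BilinForm F V :=
  LinearMap.mk₂ F Φ.B Φ.add_left (fun a x y => Φ.smul_left a x y) Φ.add_right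
    (fun a x y => by rw [Φ.smul_right, hΦ.s, smul_eq_mul])

omit [Finite F] [FiniteDimensional F V] in
theorem bil_apply {Φ : Frm F V} (hΦ : IsSp Φ) (x y : V) : bil hΦ x y = Φ.B x y := rfl

theorem sp_contra {Φ : Frm F V} (hΦ : IsSp Φ) {h : V ≃ₗ[F] V} {a : F} (ha : ∀ x y, Φ.B (h x) (h y) = a * Φ.B x y)
    {X : Submodule F V} (hX : Irr h X) (hn : finrank F V < 2 * finrank F X) (hodd : Odd (finrank F X)) : False := by
  have hB : (bil hΦ).IsAlt := fun x => hΦ.alt x
  have hrefl : (bil hΦ).IsRefl := fun x y hxy => Φ.refl x y hxy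
  have hnd : (bil hΦ).Nondegenerate := by
    apply LinearMap.BilinForm.nondegenerate_iff_ker_eq_bot.2
    rw [Submodule.eq_bot_iff]
    intro x hx
    exact hΦ.nd x fun y => LinearMap.congr_fun (LinearMap.mem_ker.1 hx) y
  -- the radical of `X`
  have hR : Inv h (X ⊓ (bil hΦ).orthogonal X) := by
    rintro v ⟨hv, hv2⟩
    refine ⟨hX.inv v hv, ?_⟩
    intro w hw
    rw [← Inv.map_eq hX.inv] at hw
    obtain ⟨w', hw', rfl⟩ := hw
    have h1 : Φ.B w' v = 0 := hv2 w' hw'
    change Φ.B (h w') (h v) = 0
    rw [ha, h1, mul_zero]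
  rcases hX.min _ inf_le_left hR with h1 | h1
  · -- `X` is nondegenerate
    have h2 := LinearMap.BilinForm.nondegenerate_restrict_of_disjoint_orthogonal (bil hΦ) hrefl
      (disjoint_iff.2 h1)
    obtain ⟨k, e, -⟩ := Cfsg.Agent.BpCl.exists_coords (B := (bil hΦ).restrict X) (fun x => hΦ.alt x)
      (fun u hu => by
        have h3 := LinearMap.BilinForm.nondegenerate_iff_ker_eq_bot.1 h2
        have h4 : u ∈ LinearMap.ker ((bil hΦ).restrict X) := by
          rw [LinearMap.mem_ker]
          exact LinearMap.ext hu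
        rw [h3] at h4
        exact (Submodule.mem_bot F).1 h4)
    have h3 := e.finrank_eq
    rw [Module.finrank_fintype_fun_eq_card, Fintype.card_sum, Fintype.card_fin] at h3
    rw [← h3, Nat.odd_iff] at hodd
    omega
  · have h2 : X ≤ (bil hΦ).orthogonal X := by
      rw [← h1]
      exact inf_le_right.trans (by rw [h1])
    have h3 := Submodule.finrank_mono (R := F) h2
    rw [LinearMap.BilinForm.finrank_orthogonal hnd] at h3
    have h4 := Submodule.finrank_le X
    omega

end Cfsg.Agent.H845.Bs
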