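import Cfsg.Agent.H847.Bs.Defs2
import Cfsg.Agent.Lib.Zsigmondy

/-!
# S5733, BS34: geometry

* `exists_prime_elt` : an element of prime order `r` commuting with an irreducible element;
* `block_contra` : an element of prime order `r` with `[V, y]` large and irreducible is in no imprimitive group
  with blocks of dimension at least 2.
-/

set_option autoImplicit false

namespace Cfsg.Agent.H845.Bs

open Cfsg.Agent.H847.Bs Module

section Inv

variable {F V : Type*} [Field F] [AddCommGroup V] [Module F V]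

theorem Inv.map_eq [FiniteDimensional F V] {x : V ≃ₗ[F] V} {Y : Submodule F V} (h : Inv x Y) :
    Y.map (x : V →ₗ[F] V) = Y := by
  have h1 : Y.map (x : V →ₗ[F] V) ≤ Y := by
    rintro _ ⟨v, hv, rfl⟩
    exact h v hv
  apply Submodule.eq_of_le_of_finrank_eq h1
  exact LinearEquiv.finrank_map_eq x Y

theorem Inv.symm_mem [FiniteDimensional F V] {x : V ≃ₗ[F] V} {Y : Submodule F V} (h : Inv x Y) {v : V} (hv : v ∈ Y) :
    x.symm v ∈ Y := by
  rw [← Inv.map_eq h] at hv
  obtain ⟨w, hw, hwv⟩ := hv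
  have h1 : x w = v := hwv
  rw [← h1, LinearEquiv.symm_apply_apply]
  exact hw

/-- powers -/
theorem Inv.pow {x : V ≃ₗ[F] V} {Y : Submodule F V} (h : Inv x Y) (n : ℕ) : Inv (x ^ n) Y := by
  induction n with
  | zero => exact fun v hv => hv
  | succ n ih =>
    intro v hv
    rw [pow_succ]
    exact ih _ (h v hv)

/-- the kernel of an endomorphism commuting with `x` is invariant -/
theorem inv_ker {x : V ≃ₗ[F] V} {a : V →ₗ[F] V} (h : ∀ v, a (x v) = x (a v)) : Inv x (LinearMap.ker a) := by
  intro v hv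
  rw [LinearMap.mem_ker] at hv ⊢
  rw [h, hv, map_zero]

theorem inv_range {x : V ≃ₗ[F] V} {a : V →ₗ[F] V} (h : ∀ v, a (x v) = x (a v)) : Inv x (LinearMap.range a) := by
  rintro _ ⟨v, rfl⟩
  exact ⟨x v, h v⟩

end Inv

section Cent

variable {F D : Type*} [Field F] [Finite F] [AddCommGroup D] [Module F D] [FiniteDimensional F D]

/-- the centralizer of `x` in the endomorphism ring -/
def cen (x : D ≃ₗ[F] D) : Submodule F (D →ₗ[F] D) where
  carrier := {a | ∀ v, a (x v) = x (a v)}
  add_mem' := by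
    intro a b ha hb v
    rw [LinearMap.add_apply, LinearMap.add_apply, ha, hb, map_add]
  zero_mem' := by
    intro v
    rw [LinearMap.zero_apply, LinearMap.zero_apply, map_zero]
  smul_mem' := by
    intro c a ha v
    rw [LinearMap.smul_apply, LinearMap.smul_apply, ha, map_smul]

omit [Finite F] [FiniteDimensional F D] in
theorem mem_cen {x : D ≃ₗ[F] D} {a : D →ₗ[F] D} : a ∈ cen x ↔ ∀ v, a (x v) = x (a v) := Iff.rfl

omit [Finite F] in
/-- Schur -/
theorem cen_injective {x : D ≃ₗ[F] D} (hx : Irr x ⊤) {a : D →ₗ[F] D} (ha : a ∈ cen x) (h0 : a ≠ 0) :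
    Function.Injective a := by
  rw [← LinearMap.ker_eq_bot]
  rcases hx.min (LinearMap.ker a) le_top (inv_ker (mem_cen.1 ha)) with h | h
  · exact h
  · exfalso
    apply h0
    exact LinearMap.ker_eq_top.1 h

omit [Finite F] in
/-- the evaluation at a nonzero vector is bijective on the centralizer -/
theorem eval_bijective {x : D ≃ₗ[F] D} (hx : Irr x ⊤) {v : D} (hv : v ≠ 0) :
    Function.Bijective (fun a : cen x => (a : D →ₗ[F] D) v) := by
  constructor
  · intro a b hab
    by_contra hne
    have h1 : (a : D →ₗ[F] D) - b ∈ cen x := (cen x).sub_mem a.2 b.2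
    have h2 : (a : D →ₗ[F] D) - b ≠ 0 := fun h => hne (Subtype.ext (sub_eq_zero.1 h))
    have h3 := cen_injective hx h1 h2
    apply hv
    apply h3
    have h4 : (a : D →ₗ[F] D) v = (b : D →ₗ[F] D) v := hab
    rw [map_zero, LinearMap.sub_apply, h4, sub_self]
  · -- the image is an invariant subspace
    let ev : cen x →ₗ[F] D := (LinearMap.applyₗ v).comp (cen x).subtype
    have hev : ∀ a : cen x, ev a = (a : D →ₗ[F] D) v := fun _ => rfl
    have h1 : Inv x (LinearMap.range ev) := by
      rintro _ ⟨a, rfl⟩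
      have h2 : (x : D →ₗ[F] D).comp (a : D →ₗ[F] D) ∈ cen x := by
        intro w
        rw [LinearMap.comp_apply, LinearMap.comp_apply, mem_cen.1 a.2]
        rfl
      exact ⟨⟨_, h2⟩, rfl⟩
    rcases hx.min _ le_top h1 with h2 | h2
    · exfalso
      apply hv
      have h3 : ev ⟨LinearMap.id, fun w => rfl⟩ = v := rfl
      have h4 : v ∈ LinearMap.range ev := ⟨_, h3⟩
      rw [h2] at h4
      exact (Submodule.mem_bot F).1 h4
    · intro w
      have h3 : w ∈ LinearMap.range ev := by rw [h2]; exact Submodule.mem_top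
      exact h3

/-- the order of the centralizer -/
theorem card_centralizer {x : D ≃ₗ[F] D} (hx : Irr x ⊤) :
    Nat.card (Subgroup.centralizer ({x} : Set (D ≃ₗ[F] D))) = Nat.card F ^ finrank F D - 1 := by
  have hD : Nontrivial D := by
    by_contra h
    rw [not_nontrivial_iff_subsingleton] at h
    apply hx.ne_bot
    rw [Submodule.eq_bot_iff]
    intro v _
    exact Subsingleton.elim _ _
  have hfin : Finite D := Module.finite_of_finite F
  obtain ⟨v, hv⟩ := exists_ne (0 : D)
  let e : Subgroup.centralizer ({x} : Set (D ≃ₗ[F] D)) → {w : D // w ≠ 0} := fun u =>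
    ⟨(u : D ≃ₗ[F] D) v, fun h => hv ((u : D ≃ₗ[F] D).injective (by rw [h, map_zero]))⟩
  have hmem : ∀ u : Subgroup.centralizer ({x} : Set (D ≃ₗ[F] D)), ((u : D ≃ₗ[F] D) : D →ₗ[F] D) ∈ cen x := by
    intro u w
    have h1 := Subgroup.mem_centralizer_singleton_iff.1 u.2
    exact LinearEquiv.congr_fun h1 w
  have he : Function.Bijective e := by
    constructor
    · intro a b hab
      have h1 : (a : D ≃ₗ[F] D) v = (b : D ≃ₗ[F] D) v := congrArg Subtype.val hab
      have h2 := (eval_bijective hx hv).1 (a₁ := ⟨_, hmem a⟩) (a₂ := ⟨_, hmem b⟩) h1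
      apply Subtype.ext
      apply LinearEquiv.ext
      intro w
      exact LinearMap.congr_fun (congrArg Subtype.val h2) w
    · rintro ⟨w, hw⟩
      obtain ⟨a, ha⟩ := (eval_bijective hx hv).2 w
      have ha0 : (a : D →ₗ[F] D) ≠ 0 := by
        intro h
        apply hw
        rw [← ha]
        change (a : D →ₗ[F] D) v = 0
        rw [h, LinearMap.zero_apply]
      have hinj := cen_injective hx a.2 ha0
      let u : D ≃ₗ[F] D := LinearEquiv.ofInjectiveEndo a hinj
      have hu : ∀ w, u w = (a : D →ₗ[F] D) w := fun w => rfl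
      refine ⟨⟨u, ?_⟩, ?_⟩
      · rw [Subgroup.mem_centralizer_singleton_iff]
        apply LinearEquiv.ext
        intro w
        exact mem_cen.1 a.2 w
      · apply Subtype.ext
        exact ha
  rw [Nat.card_congr (Equiv.ofBijective e he)]
  have h1 : Nat.card D = Nat.card F ^ finrank F D := Module.natCard_eq_pow_finrank
  classical
  have := Fintype.ofFinite D
  rw [← h1, Nat.card_eq_fintype_card, Nat.card_eq_fintype_card, Fintype.card_subtype_compl, Fintype.card_subtype_eq]

/-- **an element of prime order `r` commuting with an irreducible element** -/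
theorem exists_prime_elt {x : D ≃ₗ[F] D} (hx : Irr x ⊤) {r : ℕ} (hr : r.Prime)
    (hrq : ∀ m, r ∣ Nat.card F ^ m - 1 ↔ finrank F D ∣ m) (hrF : ¬ r ∣ Nat.card F) (hd : 2 ≤ finrank F D) :
    ∃ u : D ≃ₗ[F] D, u * x = x * u ∧ u ^ r = 1 ∧ u ≠ 1 ∧ LinearMap.det (u : D →ₗ[F] D) = 1 ∧ Irr u ⊤ := by
  have hfin : Finite D := Module.finite_of_finite F
  have hfin2 : Finite (D ≃ₗ[F] D) := Finite.of_injective (fun u : D ≃ₗ[F] D => (u : D → D)) DFunLike.coe_injective
  have : Fact r.Prime := ⟨hr⟩
  have h1 : r ∣ Nat.card (Subgroup.centralizer ({x} : Set (D ≃ₗ[F] D))) := by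
    rw [card_centralizer hx, hrq]
  obtain ⟨u, hu⟩ := exists_prime_orderOf_dvd_card' r h1
  have hur : (u : D ≃ₗ[F] D) ^ r = 1 := by
    have h2 : u ^ r = 1 := by rw [← hu]; exact pow_orderOf_eq_one u
    have h3 := congrArg Subtype.val h2
    exact h3
  have hu1 : (u : D ≃ₗ[F] D) ≠ 1 := by
    intro h
    have h2 : u = 1 := Subtype.ext h
    rw [h2, orderOf_one] at hu
    exact hr.one_lt.ne hu
  have hux : (u : D ≃ₗ[F] D) * x = x * u := Subgroup.mem_centralizer_singleton_iff.1 u.2
  have huc : ∀ v, (u : D ≃ₗ[F] D) (x v) = x ((u : D ≃ₗ[F] D) v) := fun v => LinearEquiv.congr_fun hux v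
  -- the determinant
  have hdet : LinearMap.det ((u : D ≃ₗ[F] D) : D →ₗ[F] D) = 1 := by
    have h2 : LinearEquiv.det (u : D ≃ₗ[F] D) ^ r = 1 := by
      rw [← map_pow, hur, map_one]
    have h3 : orderOf (LinearEquiv.det (u : D ≃ₗ[F] D)) ∣ r := orderOf_dvd_of_pow_eq_one h2
    have h4 : orderOf (LinearEquiv.det (u : D ≃ₗ[F] D)) ∣ Nat.card F - 1 := by
      have := Fintype.ofFinite F
      rw [← Nat.card_units F]
      exact orderOf_dvd_natCard _
    rcases (Nat.dvd_prime hr).1 h3 with h5 | h5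
    · have h6 := orderOf_eq_one_iff.1 h5
      have h7 := congrArg Units.val h6
      simpa using h7
    · exfalso
      rw [h5] at h4
      have h6 := (hrq 1).1 (by rwa [pow_one])
      have := Nat.le_of_dvd one_pos h6
      omega
  refine ⟨u, hux, hur, hu1, hdet, fun v _ => Submodule.mem_top, hx.ne_bot, ?_⟩
  -- irreducibility
  intro Y _ hY
  by_cases hY0 : Y = ⊥
  · left; exact hY0
  right
  -- `u` has no fixed vectors
  have hfix : ∀ v, (u : D ≃ₗ[F] D) v = v → v = 0 := by
    have h2 : ((u : D ≃ₗ[F] D) : D →ₗ[F] D) - LinearMap.id ∈ cen x := by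
      intro v
      change (u : D ≃ₗ[F] D) (x v) - x v = x ((u : D ≃ₗ[F] D) v - v)
      rw [huc, map_sub]
    have h3 : ((u : D ≃ₗ[F] D) : D →ₗ[F] D) - LinearMap.id ≠ 0 := by
      intro h
      apply hu1
      apply LinearEquiv.ext
      intro v
      exact LinearMap.congr_fun (sub_eq_zero.1 h) v
    intro v hv
    apply cen_injective hx h2 h3
    rw [map_zero]
    change (u : D ≃ₗ[F] D) v - v = 0
    rw [hv, sub_self]
  -- `r` divides `|Y| - 1`
  have hYfin : Finite Y := inferInstance
  have hmap : ∀ v : Y, (u : D ≃ₗ[F] D) v ∈ Y := fun v => hY v v.2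
  let σ : Function.End Y := fun v => ⟨(u : D ≃ₗ[F] D) v, hmap v⟩
  have hσ : ∀ (n : ℕ) (v : Y), (((σ ^ n) v : Y) : D) = ((u : D ≃ₗ[F] D) ^ n) v := by
    intro n
    induction n with
    | zero => intro v; rfl
    | succ n ih =>
      intro v
      rw [pow_succ, pow_succ]
      exact ih _
  have hσr : σ ^ r ^ 1 = 1 := by
    funext v
    apply Subtype.ext
    rw [pow_one, hσ, hur]
    rfl
  have h2 : Nat.card Y ≡ Nat.card (Function.fixedPoints σ) [MOD r] := by
    classical
    have := Fintype.ofFinite Y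
    have h3 := Equiv.Perm.card_fixedPoints_modEq (f := σ) (p := r) (n := 1) hσr
    rw [Nat.card_eq_fintype_card, Nat.card_eq_fintype_card]
    exact h3
  have h3 : Nat.card (Function.fixedPoints σ) = 1 := by
    rw [Nat.card_eq_one_iff_unique]
    refine ⟨⟨fun a b => ?_⟩, ⟨⟨0, ?_⟩⟩⟩
    · have h4 : ∀ a : Function.fixedPoints σ, a.1 = 0 := by
        intro a
        apply Subtype.ext
        apply hfix
        exact congrArg Subtype.val a.2
      apply Subtype.ext
      rw [h4, h4]
    · apply Subtype.ext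
      exact map_zero _
  rw [h3] at h2
  have h4 : r ∣ Nat.card F ^ finrank F Y - 1 := by
    rw [← Module.natCard_eq_pow_finrank (K := F) (V := Y)]
    have h5 : 1 ≤ Nat.card Y := Nat.card_pos
    exact (Nat.modEq_iff_dvd' h5).1 h2.symm
  rw [hrq] at h4
  have h5 : 0 < finrank F Y := by
    rw [Module.finrank_pos_iff]
    exact Submodule.nontrivial_iff_ne_bot.2 hY0
  have h6 : finrank F D ≤ finrank F Y := Nat.le_of_dvd h5 h4
  exact Submodule.eq_top_of_finrank_eq (le_antisymm (Submodule.finrank_le Y) h6)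

end Cent

end Cfsg.Agent.H845.Bs
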