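import Cfsg.Agent.H845.Bs.Count

/-!
# S5733, BS34: imprimitive groups and groups of symplectic similarities in `SL(V)`

`bs34_of` : from the proportion of the irreducible elements of `GL(D)`.
-/

set_option autoImplicit false

namespace Cfsg.Agent.H845.Bs

open Cfsg.Agent.H847.Bs Module

section

variable {F V : Type*} [Field F] [Finite F] [AddCommGroup V] [Module F V] [FiniteDimensional F V]

/-- the elements of `UU d` have their centraliser in no conjugate of an imprimitive group -/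
theorem UU_block {d : ℕ} (hd : finrank F V < 2 * d) (hd7 : 7 ≤ d) {z : V ≃ₗ[F] V} (hz : z ∈ UU F V d)
    {H : Subgroup (V ≃ₗ[F] V)} {B : Submodule F V} (hB : BlkL H B) (hB2 : 2 ≤ finrank F B) :
    ¬ ∃ g ∈ slV F V, ∀ c ∈ slV F V, c * z = z * c → g * c * g⁻¹ ∈ H := by
  rintro ⟨g, hg, hc⟩
  obtain ⟨hz1, D, W, h, hD, hzD, hzW⟩ := hz
  have hq : 2 ≤ Nat.card F := Finite.one_lt_card
  obtain ⟨r, hr, hrq, hdr, hrF⟩ := Lib.Zsigmondy.exists_primitive (a := Nat.card F) (n := d) hq (by omega)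
    (fun h2 => by omega) (fun h6 => by omega)
  have hx : Irr (res z hzD.inv) ⊤ := (irr_res hzD.inv).2 hzD
  obtain ⟨u, hux, hur, hu1, hdet, hui⟩ := exists_prime_elt hx hr (by rw [hD]; exact hrq) hrF (by rw [hD]; omega)
  -- the element `y`
  obtain ⟨y, hy⟩ : ∃ y, y = glue h u 1 := ⟨_, rfl⟩
  have hyD : ∀ v : D, y v = u v := fun v => by rw [hy]; exact glue_left h u 1 v
  have hyW : ∀ w : W, y w = w := fun w => by rw [hy]; exact glue_right h u 1 w
  have hdec : ∀ v : V, ∃ (a : D) (b : W), (a : V) + b = v := by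
    intro v
    have h1 : v ∈ D ⊔ W := by rw [h.sup_eq_top]; exact Submodule.mem_top
    obtain ⟨a, ha, b, hb, hab⟩ := Submodule.mem_sup.1 h1
    exact ⟨⟨a, ha⟩, ⟨b, hb⟩, hab⟩
  have hySL : y ∈ slV F V := by
    change LinearMap.det (y : V →ₗ[F] V) = 1
    rw [hy, det_glue, hdet, one_mul]
    exact LinearMap.det_id
  have hyz : y * z = z * y := by
    apply LinearEquiv.ext
    intro v
    obtain ⟨a, b, rfl⟩ := hdec v
    change y (z (a + b)) = z (y (a + b))
    rw [map_add, map_add, map_add, map_add, hyD, hyW]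
    have h1 : y (z a) = z (u a) := by
      have h2 : z a = (res z hzD.inv a : D) := rfl
      rw [h2, hyD]
      have h3 := LinearEquiv.congr_fun hux a
      exact congrArg Subtype.val h3
    have h2 : y (z b) = z b := hyW ⟨z b, hzW b b.2⟩
    rw [h1, h2]
  have hy' := hc y hySL hyz
  have hypow : ∀ m : ℕ, ∀ (a : D) (b : W), (y ^ m) (a + b) = ((u ^ m) a : D) + b := by
    intro m
    induction m with
    | zero => intro a b; rfl
    | succ m ih =>
      intro a b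
      rw [pow_succ, pow_succ]
      change (y ^ m) (y (a + b)) = ((u ^ m) (u a) : D) + b
      rw [map_add, hyD, hyW, ih]
  have hyr : y ^ r = 1 := by
    apply LinearEquiv.ext
    intro v
    obtain ⟨a, b, rfl⟩ := hdec v
    rw [hypow, hur]
    rfl
  have hyinv : Inv y D := fun v hv => by rw [hyD ⟨v, hv⟩]; exact (u _).2
  have hyirr : Irr y D := by
    rw [← irr_res hyinv]
    have h1 : res y hyinv = u := LinearEquiv.ext fun v => Subtype.ext (hyD v)
    rw [h1]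
    exact hui
  refine block_contra hB hB2 hy' hr ?_ (X := D.map (g : V →ₗ[F] V)) (Irr.conj hyirr) ?_ ?_ ?_ ?_
  · rw [conj_pow, hyr, mul_one, mul_inv_cancel]
  · intro v
    obtain ⟨a, b, hab⟩ := hdec (g.symm v)
    refine ⟨(u a : V) - a, D.sub_mem (u a).2 a.2, ?_⟩
    change g ((u a : V) - a) = g (y (g.symm v)) - v
    rw [← hab, map_add, map_add, hyD, hyW]
    have h1 : v = g (a : V) + g (b : V) := by rw [← map_add, hab, g.apply_symm_apply]
    rw [map_sub]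
    conv_rhs => rw [h1]
    abel
  · intro h1
    apply hu1
    have h2 : y = 1 := by
      have h3 : y = g⁻¹ * (g * y * g⁻¹) * g := by group
      rw [h3, h1]; group
    apply LinearEquiv.ext
    intro v
    apply Subtype.ext
    rw [← hyD, h2]
    rfl
  · rw [LinearEquiv.finrank_map_eq g D, hD]
    exact hd
  · rw [LinearEquiv.finrank_map_eq g D, hD]
    have h1 := Nat.le_of_dvd (by have := hr.two_le; omega) hdr
    have := hr.two_le
    omega

/-- the elements of `UU d`, `d` odd, are in no group of symplectic similarities -/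
theorem UU_sp {d : ℕ} (hd : finrank F V < 2 * d) (hodd : Odd d) {z : V ≃ₗ[F] V} (hz : z ∈ UU F V d)
    {H : Subgroup (V ≃ₗ[F] V)} {Φ : Frm F V} (hΦ : IsSp Φ)
    (hH : ∀ h ∈ H, ∃ a : F, ∀ x y, Φ.B (h x) (h y) = a * Φ.B x y) (g : V ≃ₗ[F] V) : g * z * g⁻¹ ∉ H := by
  intro hgz
  obtain ⟨hz1, D, W, h, hD, hzD, hzW⟩ := hz
  obtain ⟨a, ha⟩ := hH _ hgz
  refine sp_contra hΦ ha (X := D.map (g : V →ₗ[F] V)) (Irr.conj hzD) ?_ ?_
  · rw [LinearEquiv.finrank_map_eq g D, hD]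
    exact hd
  · rw [LinearEquiv.finrank_map_eq g D, hD]
    exact hodd

omit [Finite F] in
theorem UU_disjoint {d d' : ℕ} (hd : finrank F V < 2 * d) (hd' : finrank F V < 2 * d') {z : V ≃ₗ[F] V}
    (hz : z ∈ UU F V d) (hz' : z ∈ UU F V d') : d = d' := by
  obtain ⟨-, D, W, -, hD, hzD, -⟩ := hz
  obtain ⟨-, D', W', -, hD', hzD', -⟩ := hz'
  have h1 := irr_unique hzD hzD' (by omega)
  rw [← hD, ← hD', h1]

end

/-- the proportion of the irreducible elements of `GL(V)` (BS05) -/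
def GlIrr : Prop := ∀ (F V : Type) [Field F] [Finite F] [AddCommGroup V] [Module F V] [Module.Finite F V],
  1 ≤ finrank F V → ar (finrank F V) / (finrank F V : ℝ) * (Nat.card (V ≃ₗ[F] V) : ℝ) ≤
    Nat.card {x : V ≃ₗ[F] V // Irr x ⊤}

theorem ar_half {d : ℕ} (hd : 16 ≤ d) : (1 / 2 : ℝ) ≤ ar d := by
  unfold ar
  have h1 : (4 / 5 : ℝ) ^ d ≤ (4 / 5 : ℝ) ^ 16 := pow_le_pow_of_le_one (by norm_num) (by norm_num) hd
  have h2 : (16 : ℝ) * (4 / 5 : ℝ) ^ 16 ≤ 1 / 2 := by norm_num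
  linarith

section

variable {F V : Type} [Field F] [Finite F] [AddCommGroup V] [Module F V] [Module.Finite F V]

omit [Finite F] in
theorem exists_sub_finrank {j : ℕ} (hj : j ≤ finrank F V) : ∃ W : Submodule F V, finrank F W = j := by
  let b := finBasis F V
  have hli : LinearIndependent F (fun i : Fin j => b (Fin.castLE hj i)) :=
    b.linearIndependent.comp _ (Fin.castLE_injective hj)
  refine ⟨Submodule.span F (Set.range fun i : Fin j => b (Fin.castLE hj i)), ?_⟩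
  rw [finrank_span_eq_card hli, Fintype.card_fin]

/-- the sum -/
theorem sum_UU (hirr : GlIrr) (hn : 40 ≤ finrank F V) {T : Set (V ≃ₗ[F] V)} (hTf : T.Finite)
    (hT : ∀ d, finrank F V < 2 * d → d < finrank F V → Odd d → UU F V d ⊆ T) :
    1 / 20 * (Nat.card (slV F V) : ℝ) ≤ Nat.card T := by
  classical
  have hVfin : Finite V := Module.finite_of_finite F
  have hGfin : Finite (V ≃ₗ[F] V) := Finite.of_injective (fun u : V ≃ₗ[F] V => (u : V → V)) DFunLike.coe_injective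
  obtain ⟨n, hnn⟩ : ∃ n, finrank F V = n := ⟨_, rfl⟩
  rw [hnn] at hn
  let dd : Fin (n / 8) → ℕ := fun i => 2 * (n / 4 + 1 + i) + 1
  have hdd : ∀ i, n < 2 * dd i ∧ dd i < n ∧ Odd (dd i) ∧ 16 ≤ dd i := by
    intro i
    have h1 := i.2
    refine ⟨?_, ?_, ⟨_, rfl⟩, ?_⟩ <;> · change _; simp only [dd]; omega
  -- each summand
  have h1 : ∀ i, 1 / (2 * n : ℝ) * (Nat.card (slV F V) : ℝ) ≤ Nat.card (UU F V (dd i)) := by
    intro i
    obtain ⟨h2, h3, h4, h5⟩ := hdd i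
    obtain ⟨D, hD⟩ := exists_sub_finrank (F := F) (V := V) (j := dd i) (by rw [hnn]; exact h3.le)
    obtain ⟨W, hW⟩ := Submodule.exists_isCompl D
    have h6 := Submodule.finrank_add_eq_of_isCompl hW
    have h7 := card_UU hW (by rw [hD, hnn]; exact h2) (by omega) (c := 1 / (2 * n : ℝ)) ?_
    · rwa [hD] at h7
    · refine le_trans ?_ (hirr F D (by rw [hD]; omega))
      apply mul_le_mul_of_nonneg_right _ (Nat.cast_nonneg _)
      rw [hD]
      have h8 := ar_half h5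
      have h9 : (0 : ℝ) < dd i := by exact_mod_cast (by omega : 0 < dd i)
      have h10 : (dd i : ℝ) ≤ n := by exact_mod_cast h3.le
      have h11 : (0 : ℝ) < n := by linarith
      rw [div_le_div_iff₀ (by linarith) h9]
      nlinarith
  -- the disjoint union
  have h2 : ∑ i : Fin (n / 8), Nat.card (UU F V (dd i)) ≤ Nat.card T := by
    rw [← Nat.card_sigma]
    have := hTf.to_subtype
    refine Nat.card_le_card_of_injective (fun p : (Σ i : Fin (n / 8), UU F V (dd i)) =>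
      (⟨p.2.1, hT _ (by rw [hnn]; exact (hdd p.1).1) (by rw [hnn]; exact (hdd p.1).2.1) (hdd p.1).2.2.1 p.2.2⟩ : T)) ?_
    rintro ⟨i, x, hx⟩ ⟨j, y, hy⟩ hxy
    have h3 : x = y := congrArg (fun z : T => (z : V ≃ₗ[F] V)) hxy
    subst h3
    have h4 := UU_disjoint (by rw [hnn]; exact (hdd i).1) (by rw [hnn]; exact (hdd j).1) hx hy
    have h5 : i = j := by
      apply Fin.ext
      simp only [dd] at h4
      omega
    subst h5
    rfl
  have h3 : (∑ i : Fin (n / 8), (Nat.card (UU F V (dd i)) : ℝ)) ≤ Nat.card T := by exact_mod_cast h2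
  have h4 : ∑ i : Fin (n / 8), 1 / (2 * n : ℝ) * (Nat.card (slV F V) : ℝ) ≤
      ∑ i : Fin (n / 8), (Nat.card (UU F V (dd i)) : ℝ) := Finset.sum_le_sum fun i _ => h1 i
  rw [Finset.sum_const, Finset.card_univ, Fintype.card_fin, nsmul_eq_mul, ← mul_assoc] at h4
  refine le_trans ?_ (h4.trans h3)
  apply mul_le_mul_of_nonneg_right _ (Nat.cast_nonneg _)
  have h5 : ((n : ℝ) - 7) / 8 ≤ ((n / 8 : ℕ) : ℝ) := by
    have h6 : n - 7 ≤ 8 * (n / 8) := by omega
    have h7 : ((n - 7 : ℕ) : ℝ) ≤ 8 * ((n / 8 : ℕ) : ℝ) := by exact_mod_cast h6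
    rw [Nat.cast_sub (by omega)] at h7
    push_cast at h7 ⊢
    linarith
  have h6 : (40 : ℝ) ≤ n := by exact_mod_cast hn
  have h7 : (0 : ℝ) < n := by linarith
  rw [mul_one_div, div_le_div_iff₀ (by norm_num) (by linarith)]
  nlinarith

/-- **BS34 (a)** -/
theorem bs34a_of (hirr : GlIrr) (hn : 40 ≤ finrank F V) (H : Subgroup (V ≃ₗ[F] V)) {D : Submodule F V}
    (hB : BlkL H D) (hD : 2 ≤ finrank F D) : 1 / 40 * (Nat.card (slV F V) : ℝ) ≤ ndV (slV F V) H := by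
  have hVfin : Finite V := Module.finite_of_finite F
  have hGfin : Finite (V ≃ₗ[F] V) := Finite.of_injective (fun u : V ≃ₗ[F] V => (u : V → V)) DFunLike.coe_injective
  have h1 := H358.Bs.card_noncent_le (G := slV F V) (H := H)
  have h2 := sum_UU hirr hn (T := {x : V ≃ₗ[F] V | x ∈ slV F V ∧ ¬ ∃ g ∈ slV F V, ∀ c ∈ slV F V, c * x = x * c →
    g * c * g⁻¹ ∈ H}) (Set.toFinite _) (fun d hd hd2 _ z hz => ⟨hz.1, UU_block hd (by omega) hz hB hD⟩)
  have h3 : (Nat.card {x : V ≃ₗ[F] V | x ∈ slV F V ∧ ¬ ∃ g ∈ slV F V, ∀ c ∈ slV F V, c * x = x * c →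
    g * c * g⁻¹ ∈ H} : ℝ) ≤ 2 * (H358.Bs.ndIn (slV F V) H : ℝ) := by exact_mod_cast h1
  have h4 : (H358.Bs.ndIn (slV F V) H : ℝ) = ndV (slV F V) H := rfl
  rw [h4] at h3
  linarith

/-- **BS34 (b)** -/
theorem bs34b_of (hirr : GlIrr) (hn : 40 ≤ finrank F V) (H : Subgroup (V ≃ₗ[F] V)) {Φ : Frm F V} (hΦ : IsSp Φ)
    (hH : ∀ h ∈ H, ∃ a : F, ∀ x y, Φ.B (h x) (h y) = a * Φ.B x y) :
    1 / 40 * (Nat.card (slV F V) : ℝ) ≤ ndV (slV F V) H := by
  have hVfin : Finite V := Module.finite_of_finite F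
  have hGfin : Finite (V ≃ₗ[F] V) := Finite.of_injective (fun u : V ≃ₗ[F] V => (u : V → V)) DFunLike.coe_injective
  have h2 := sum_UU hirr hn (T := {x : V ≃ₗ[F] V | x ∈ slV F V ∧ ∀ g ∈ slV F V, g * x * g⁻¹ ∉ H})
    (Set.toFinite _) (fun d hd _ hodd z hz => ⟨hz.1, fun g _ => UU_sp hd hodd hz hΦ hH g⟩)
  have h4 : (Nat.card {x : V ≃ₗ[F] V | x ∈ slV F V ∧ ∀ g ∈ slV F V, g * x * g⁻¹ ∉ H} : ℝ) = ndV (slV F V) H := rfl
  rw [h4] at h2
  have h5 : (0 : ℝ) ≤ (Nat.card (slV F V) : ℝ) := Nat.cast_nonneg _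
  linarith

end

/-- **BS34** from BS05 -/
theorem bs34_of (hirr : GlIrr) : ∃ c : ℝ, 0 < c ∧ ∃ n₀ : ℕ,
    ∀ (F V : Type) [Field F] [Finite F] [AddCommGroup V] [Module F V] [Module.Finite F V],
      n₀ ≤ finrank F V → ∀ H : Subgroup (V ≃ₗ[F] V), H ≤ slV F V →
        ((∃ D : Submodule F V, BlkL H D ∧ 2 ≤ finrank F D) →
          c * (Nat.card (slV F V) : ℝ) ≤ ndV (slV F V) H) ∧
        ((∃ Φ : Frm F V, IsSp Φ ∧ ∀ h ∈ H, ∃ a : F, ∀ x y, Φ.B (h x) (h y) = a * Φ.B x y) →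
          c * (Nat.card (slV F V) : ℝ) ≤ ndV (slV F V) H) := by
  refine ⟨1 / 40, by norm_num, 40, ?_⟩
  intro F V _ _ _ _ _ hn H _
  refine ⟨?_, ?_⟩
  · rintro ⟨D, hB, hD⟩
    exact bs34a_of hirr hn H hB hD
  · rintro ⟨Φ, hΦ, hH⟩
    exact bs34b_of hirr hn H hΦ hH

end Cfsg.Agent.H845.Bs
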