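import Cfsg.Agent.H845.Bs.SLBlk
import Cfsg.Agent.H847.Bs.Stmts
import Cfsg.Agent.H46.Bs.GL

/-!
# S5733, BS34: imprimitive groups and groups of symplectic similarities in `SL(V)`
-/

set_option autoImplicit false

namespace Cfsg.Agent.H845.Bs

open Cfsg.Agent.H847.Bs Module

theorem glIrr : GlIrr := fun F V _ _ _ _ _ h1 => H46.Bs.gl_irr F V rfl h1

/-- **BS34** -/
theorem bs34 : ∃ c : ℝ, 0 < c ∧ ∃ n₀ : ℕ,
    ∀ (F V : Type) [Field F] [Finite F] [AddCommGroup V] [Module F V] [Module.Finite F V],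
      n₀ ≤ finrank F V → ∀ H : Subgroup (V ≃ₗ[F] V), H ≤ slV F V →
        ((∃ D : Submodule F V, BlkL H D ∧ 2 ≤ finrank F D) →
          c * (Nat.card (slV F V) : ℝ) ≤ ndV (slV F V) H) ∧
        ((∃ Φ : Frm F V, IsSp Φ ∧ ∀ h ∈ H, ∃ a : F, ∀ x y, Φ.B (h x) (h y) = a * Φ.B x y) →
          c * (Nat.card (slV F V) : ℝ) ≤ ndV (slV F V) H) := bs34_of glIrr

theorem s34 : Cfsg.Agent.H847.Bs.S34 := by
  obtain ⟨c, hc, n₀, h⟩ := bs34
  refine ⟨c, hc, n₀, ?_⟩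
  intro F V _ _ _ _ _ hn H hH _ D hD hD2
  exact (h F V hn H hH).1 ⟨D, hD, hD2⟩

end Cfsg.Agent.H845.Bs
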